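import Groth.Agent.Lib.DefAmp1.Tensor
import Groth.Agent.Lib.IntShRes5.PosEuler
import Groth.Agent.Lib.TensorNat17.Basic
import Groth.Agent.Lib.CurveCoh17.Twist
import Groth.Agent.Lib.CurveCoh17.Integral
import Groth.Agent.Lib.NumPoly18.SurfProj
import Groth.Agent.Lib.Snapper.Main
import Groth.Agent.Lib.PBK5.Segre
import Groth.Agent.Lib.CohFound.PushFin

/-!
# A vanishing criterion on curves without `H¹` of the structure sheaf
-/

set_option autoImplicit false
set_option maxHeartbeats 1000000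
set_option linter.style.haveILetI false
set_option linter.unusedSectionVars false
set_option synthInstance.maxHeartbeats 80000
set_option backward.isDefEq.respectTransparency false
set_option backward.isDefEq.respectTransparency.types false

universe u

open CategoryTheory CategoryTheory.Limits AlgebraicGeometry TopologicalSpace Opposite

noncomputable section

namespace Groth.Agent.Ruled10

open Groth.Agent Groth.Agent.CohFound

variable {k : Type u} [Field k]

/-- Cohomology of a direct image in degree one when `R¹` vanishes. -/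
theorem nonempty_HH_push_one {X Y : Scheme.{u}} [X.Over (Spec (CommRingCat.of k))]
    [Y.Over (Spec (CommRingCat.of k))] (f : X ⟶ Y) [QuasiCompact f] [QuasiSeparated f]
    (hf : f ≫ (Y ↘ Spec (CommRingCat.of k)) = X ↘ Spec (CommRingCat.of k))
    [HasInjectiveResolutions X.Modules] (M : X.Modules) (hM : Coh.IsQCoh M)
    (hA : IsZero ((Coh.Rpush f 1).obj M)) :
    Nonempty (Coh.HH Y ((Scheme.Modules.pushforward f).obj M) 1 ≃ₗ[k] Coh.HH X M 1) := by
  let φ : k →+* Γ(Y, ⊤) := Coh.toGlobal (Y ↘ Spec (CommRingCat.of k))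
  let ψ : k →+* Γ(X, ⊤) := Coh.toGlobal (X ↘ Spec (CommRingCat.of k))
  have hψ : ∀ a, f.appTop (φ a) = ψ a := fun a => by
    have h := ConcreteCategory.congr_hom (congrArg Scheme.Hom.appTop hf)
      ((Scheme.ΓSpecIso (CommRingCat.of k)).inv a)
    exact h
  obtain ⟨e₁⟩ := nonempty_abF_rpush_iso_shPre f M 1
  obtain ⟨e₂⟩ := nonempty_rpush_iso_shPre (f.base : sp X ⟶ sp Y) ((abF X).obj M) 1
  have hA' : IsZero ((CohTop.Rpush (f.base : sp X ⟶ sp Y) 1).obj ((abF X).obj M)) :=
    (((abF Y).map_isZero hA).of_iso e₁.symm).of_iso e₂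
  have hacyc : PushAcyclicUpTo (f.base : sp X ⟶ sp Y) Y.affineOpens 1 ((abF X).obj M) := by
    intro q hq V hV
    obtain rfl : q = 0 := by omega
    obtain ⟨e⟩ := nonempty_sections_rpushAb f hM (0 + 1) hV
    exact @Equiv.subsingleton _ _ e.toEquiv.symm (AddCommGrpCat.subsingleton_of_isZero
      ((sheafToPresheaf _ _ ⋙ (evaluation _ _).obj (op V)).map_isZero hA'))
  obtain ⟨ε, hε⟩ := exists_hc_push_commute (f.base : sp X ⟶ sp Y) Y.isBasis_affineOpens 1 ((abF X).obj M) hacyc ⊤
  let T := (mpEquiv (abFPushIso f M) 1 ⊤).trans ε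
  have hT : ∀ a x, T (gMul ((Scheme.Modules.pushforward f).obj M) (φ a) 1 ⊤ x) = gMul M (ψ a) 1 ⊤ (T x) := fun a x => by
    rw [← hψ a]
    exact trans_commute (abFPushIso f M) 1 ⊤ ε _ _ _ (abFPushIso_gEnd f M (φ a)) (hε (gEnd M (f.appTop (φ a)))) x
  let E : Coh.HH Y ((Scheme.Modules.pushforward f).obj M) 1 ≃+ Coh.HH X M 1 :=
    (hhExt _ 1).trans (T.trans (hhExt M 1).symm)
  refine ⟨{ E with map_smul' := fun a x => ?_ }⟩
  show E (a • x) = a • E x
  apply (hhExt M 1).injective
  simp only [E, AddEquiv.trans_apply, AddEquiv.apply_symm_apply]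
  have h1 : hhExt ((Scheme.Modules.pushforward f).obj M) 1 (a • x) =
      gMul ((Scheme.Modules.pushforward f).obj M) (φ a) 1 ⊤ (hhExt _ 1 x) :=
    hExt_map (gEnd _ (φ a)) 1 x
  have h2 : hhExt M 1 (a • (hhExt M 1).symm (T (hhExt _ 1 x))) =
      gMul M (ψ a) 1 ⊤ (hhExt M 1 ((hhExt M 1).symm (T (hhExt _ 1 x)))) :=
    hExt_map (gEnd M (ψ a)) 1 _
  refine (congrArg (fun z => hhExt M 1 ((hhExt M 1).symm (T z))) h1).trans ?_
  exact ((hhExt M 1).apply_symm_apply _).trans ((hT a _).trans
    (h2.trans (congrArg (gMul M (ψ a) 1 ⊤) ((hhExt M 1).apply_symm_apply _))).symm)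

/-- A nonzero cyclic module has nonzero product with a nonzero finite module over a local ring. -/
theorem subsingleton_of_tensor_cyclic {R : Type u} [CommRing R] [IsLocalRing R] {A B : Type u} [AddCommGroup A]
    [Module R A] [AddCommGroup B] [Module R B] [Module.Finite R B] [Nontrivial A] (e : R →ₗ[R] A)
    (he : Function.Surjective e) (h : Subsingleton (TensorProduct R A B)) : Subsingleton B := by
  have hJ : LinearMap.ker e ≤ IsLocalRing.maximalIdeal R := by
    refine IsLocalRing.le_maximalIdeal fun htop => ?_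
    obtain ⟨a, ha⟩ := exists_ne (0 : A)
    obtain ⟨r, rfl⟩ := he a
    exact ha (LinearMap.mem_ker.1 (htop ▸ Submodule.mem_top))
  have hJ' : LinearMap.ker e ≤ LinearMap.ker (Algebra.linearMap R (IsLocalRing.ResidueField R)) := fun r hr =>
    LinearMap.mem_ker.2 ((IsLocalRing.residue_eq_zero_iff r).2 (hJ hr))
  let g : A →ₗ[R] IsLocalRing.ResidueField R :=
    (Submodule.liftQ (LinearMap.ker e) (Algebra.linearMap R (IsLocalRing.ResidueField R)) hJ') ∘ₗ
      (LinearMap.quotKerEquivOfSurjective e he).symm.toLinearMap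
  have hg : Function.Surjective g := by
    intro z
    obtain ⟨r, rfl⟩ := IsLocalRing.residue_surjective z
    refine ⟨e r, ?_⟩
    show Submodule.liftQ _ _ hJ' ((LinearMap.quotKerEquivOfSurjective e he).symm (e r)) = _
    rw [show (LinearMap.quotKerEquivOfSurjective e he).symm (e r) = Submodule.Quotient.mk r from
      (LinearEquiv.symm_apply_eq _).2 rfl]
    rfl
  haveI : Subsingleton (TensorProduct R (IsLocalRing.ResidueField R) B) :=
    (LinearMap.rTensor_surjective B hg).subsingleton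
  exact IsLocalRing.subsingleton_tensorProduct.1 this

variable [IsAlgClosed k] {Y : Scheme.{u}} [Y.Over (Spec (CommRingCat.of k))]
  [IsProper (Y ↘ Spec (CommRingCat.of k))] [IsIntegral Y]

/-- If `h¹(I_q ⊗ E) ≤ h¹(E)` on a curve without `H¹(O)`, both vanish. -/
theorem h1_eq_zero_of_le (hdim : topologicalKrullDim Y = 1)
    (hO : Subsingleton (Coh.HH Y (Coh.structureModule Y) 1)) {E : Y.Modules} (hE : Coh.IsCoh E)
    {q : Y} (hq : IsClosed ({q} : Set Y))
    (hle : Module.finrank k (Coh.HH Y (CohB1.tensorMod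
      (ClSub.idealMod (Scheme.IdealSheafData.vanishingIdeal (⟨{q}, hq⟩ : Closeds Y))) E) 1) ≤
        Module.finrank k (Coh.HH Y E 1)) :
    Subsingleton (Coh.HH Y E 1) ∧ Subsingleton (Coh.HH Y (CohB1.tensorMod
      (ClSub.idealMod (Scheme.IdealSheafData.vanishingIdeal (⟨{q}, hq⟩ : Closeds Y))) E) 1) := by
  classical
  obtain ⟨hNoeth, hSep⟩ := DefAmp1.setup (X := Y) k
  haveI := hNoeth
  haveI := hSep
  set Z := Scheme.IdealSheafData.vanishingIdeal (⟨{q}, hq⟩ : Closeds Y) with hZ
  have hsZ : (Z.support : Set Y) = {q} := by rw [hZ, Scheme.IdealSheafData.coe_support_vanishingIdeal]; rfl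
  let R := M2.tensorR E
  let S₀ := ShortComplex.mk (ClSub.idealModι Z) (ClSub.toSubscheme Z) (kernel.condition _)
  have hS₀ : S₀.ShortExact := M2.shortExact_idealMod Z
  let g : R.obj (Coh.structureModule Y) ⟶ R.obj (ClSub.quotMod Z) := R.map (ClSub.toSubscheme Z)
  haveI : Epi g := by
    haveI := hS₀.epi_g
    exact CohFound.epi_tensorMap (ClSub.toSubscheme Z) E
  have hex := DefAmp1.exact_tensorR hS₀ E
  let ψ : R.obj (ClSub.idealMod Z) ⟶ kernel g := kernel.lift g (R.map (ClSub.idealModι Z))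
    (by rw [← R.map_comp, show ClSub.idealModι Z ≫ ClSub.toSubscheme Z = 0 from kernel.condition _]; exact R.map_zero _ _)
  haveI : Epi ψ := (ShortComplex.exact_iff_epi_kernel_lift _).1 hex
  have hOE : Coh.IsCoh (R.obj (Coh.structureModule Y)) :=
    CurveCoh17.isCoh_tensor (M1.isCoh_structureModule _) hE
  have hQE : Coh.IsCoh (R.obj (ClSub.quotMod Z)) := CurveCoh17.isCoh_tensor (CurveCoh17.isCoh_quotMod Z) hE
  have hIE : Coh.IsCoh (R.obj (ClSub.idealMod Z)) := CurveCoh17.isCoh_tensor (CurveCoh17.isCoh_idealMod Z) hE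
  have hK : Coh.IsCoh (kernel g) := CurveCoh17.isCoh_kernel hOE hQE.1 g
  let T := ShortComplex.mk (kernel.ι g) g (kernel.condition g)
  have hT : T.ShortExact := { exact := ShortComplex.exact_kernel g }
  -- the support of the quotient
  obtain ⟨S₁, hsupp₁⟩ := CurveCoh17.exists_suppIn_quotMod Z (by
    rw [hsZ]; exact topologicalKrullDim_zero_of_discreteTopology _)
  have hsupp := hsupp₁.tensor E
  haveI hQ1 : Subsingleton (Coh.HH Y T.X₃ 1) := hsupp.subsingleton_HH 0
  haveI fI : Module.Finite k (Coh.HH Y (CohB1.tensorMod (ClSub.idealMod Z) E) 1) :=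
    CohFound.finite_HH_of_isProper (A := k) (CohB1.tensorMod (ClSub.idealMod Z) E) hIE 1
  haveI fI' : Module.Finite k (Coh.HH Y (R.obj (ClSub.idealMod Z)) 1) := fI
  haveI fK : Module.Finite k (Coh.HH Y (kernel g) 1) := CohFound.finite_HH_of_isProper (A := k) (kernel g) hK 1
  haveI fK' : Module.Finite k (Coh.HH Y T.X₁ 1) := fK
  haveI fO : Module.Finite k (Coh.HH Y (R.obj (Coh.structureModule Y)) 1) :=
    CohFound.finite_HH_of_isProper (A := k) (R.obj (Coh.structureModule Y)) hOE 1
  haveI fO' : Module.Finite k (Coh.HH Y T.X₂ 1) := fO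
  have hf1 : Function.Surjective (CurveCoh17.hmap k T.f 1) := fun y =>
    (CurveCoh17.exact_hmap_hmap k hT 1 y).1 (@Subsingleton.elim _ hQ1 _ _)
  have hψ1 : Function.Surjective (CurveCoh17.hmap k ψ 1) := by
    let S₂ : ShortComplex Y.Modules := ShortComplex.mk (kernel.ι ψ) ψ (kernel.condition ψ)
    have hS₂ : S₂.ShortExact := { exact := ShortComplex.exact_kernel ψ }
    haveI : Subsingleton (Coh.HH Y S₂.X₁ 2) :=
      CurveCoh17.subsingleton_HH_of_dim hdim.le _ (M1.isQCoh_kernel hIE.1 hK.1 ψ) 0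
    exact fun y => (CurveCoh17.exact_hmap_hdelta k hS₂ 1 y).1 (Subsingleton.elim _ _)
  have hle' : Module.finrank k (Coh.HH Y (kernel g) 1) ≤ Module.finrank k (Coh.HH Y (R.obj (Coh.structureModule Y)) 1) := by
    have h1 := LinearMap.finrank_range_le (CurveCoh17.hmap k ψ 1)
    rw [LinearMap.range_eq_top.2 hψ1, finrank_top] at h1
    exact h1.trans (hle.trans_eq (CurveCoh17.hequiv k (M2.tensorLUnit E) 1).finrank_eq.symm)
  have hinj : Function.Injective (CurveCoh17.hmap k T.f 1) := by
    have h2 := LinearMap.finrank_range_le (CurveCoh17.hmap k T.f 1)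
    rw [LinearMap.range_eq_top.2 hf1, finrank_top] at h2
    exact (LinearMap.injective_iff_surjective_of_finrank_eq_finrank (le_antisymm hle' h2)).2 hf1
  -- sections of the quotient lift
  have hlift : Function.Surjective (g.app ⊤) := fun t => by
    obtain ⟨x, hx⟩ := (CurveCoh17.exact_hmap_hdelta k hT 0 ((CurveCoh17.hh0 T.X₃).symm t)).1
      (hinj (((CurveCoh17.exact_hdelta_hmap k hT 0) _).2 ⟨_, rfl⟩ |>.trans (map_zero _).symm))
    refine ⟨CurveCoh17.hh0 T.X₂ x, ?_⟩
    show T.g.app ⊤ _ = t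
    rw [← CurveCoh17.hh0_hmap k T.g x, hx, AddEquiv.apply_symm_apply]
  -- the cokernel of the evaluation map
  let ev := M1.freeHom (fun t : Γ(E, ⊤) => t)
  let c : E ⟶ cokernel ev := cokernel.π ev
  have hc : CMReg18.Kills c := fun t => by
    have h1 := congrArg (fun φ => M1.freeSec φ t) (cokernel.condition ev)
    rw [M1.freeHom_comp] at h1
    simp only [M1.freeSec, M1.ιF_freeHom, M1.secHom_app_one] at h1
    refine h1.trans ?_
    rw [comp_zero]
    rfl
  haveI : Epi c := inferInstanceAs (Epi (cokernel.π ev))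
  let cq := M2.tensorMap (𝟙 (ClSub.quotMod Z)) c
  have hnat : g ≫ cq = M2.tensorMap (𝟙 (Coh.structureModule Y)) c ≫ M2.tensorMap (ClSub.toSubscheme Z) (𝟙 _) := by
    show M2.tensorMap (ClSub.toSubscheme Z) (𝟙 E) ≫ _ = _
    rw [← M2.tensorMap_comp, ← M2.tensorMap_comp, Category.comp_id, Category.id_comp, Category.id_comp, Category.comp_id]
  have hcq : CMReg18.Kills cq := fun t => by
    obtain ⟨s, rfl⟩ := hlift t
    have hz : (M2.tensorMap (𝟙 (Coh.structureModule Y)) c).app ⊤ s = 0 := by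
      apply M1.app_injective (M2.tensorLUnit (cokernel ev)).hom ⊤
      rw [map_zero]
      show (M2.tensorMap (𝟙 (Coh.structureModule Y)) c ≫ (M2.tensorLUnit _).hom).app ⊤ s = 0
      rw [M2.tensorLUnit_natural]
      exact hc _
    show (g ≫ cq).app ⊤ s = 0
    rw [hnat]
    show (M2.tensorMap (ClSub.toSubscheme Z) (𝟙 _)).app ⊤ ((M2.tensorMap (𝟙 (Coh.structureModule Y)) c).app ⊤ s) = 0
    rw [hz, map_zero]
  have hcq0 : cq = 0 := CMReg18.eq_zero_of_kills (DefAmp1.gg_of_suppIn hsupp) hcq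
  haveI : Epi (M2.tensorMap (ClSub.toSubscheme Z) (𝟙 (cokernel ev))) := by
    haveI := hS₀.epi_g
    exact CohFound.epi_tensorMap (ClSub.toSubscheme Z) _
  have h0 : M2.tensorMap (ClSub.toSubscheme Z) (𝟙 (cokernel ev)) = 0 := by
    have h2 : M2.tensorMap (𝟙 (Coh.structureModule Y)) c ≫ M2.tensorMap (ClSub.toSubscheme Z) (𝟙 _) = 0 := by
      rw [← hnat, hcq0, comp_zero]
    haveI : Epi (M2.tensorMap (𝟙 (Coh.structureModule Y)) c) := by
      haveI : Epi (M2.tensorMap (𝟙 (Coh.structureModule Y)) c ≫ (M2.tensorLUnit (cokernel ev)).hom) := by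
        rw [M2.tensorLUnit_natural]; exact epi_comp _ _
      rw [← Category.comp_id (M2.tensorMap (𝟙 (Coh.structureModule Y)) c), ← (M2.tensorLUnit (cokernel ev)).hom_inv_id,
        ← Category.assoc]
      exact epi_comp _ _
    exact zero_of_epi_comp _ h2
  have hzero : IsZero (CohB1.tensorMod (ClSub.quotMod Z) (cokernel ev)) := IsZero.of_epi_eq_zero _ h0
  have hqfree : Coh.IsQCoh (SheafOfModules.free Γ(E, ⊤) : Y.Modules) :=
    SerreCl8.isQCoh_sigma _ fun _ => M1.isQCoh_structureModule Y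
  have hC : Coh.IsCoh (cokernel ev) := M1.isCoh_cokernel hqfree hE ev
  have hqC : q ∉ CohB1.support (cokernel ev) := fun hq' => hq' (by
    haveI : Nontrivial ((ClSub.quotMod Z).presheaf.stalk q : Type u) := by
      refine not_subsingleton_iff_nontrivial.1 ?_
      have h : q ∈ CohB1.support (ClSub.quotMod Z) := by rw [NumPoly18.support_quotMod, hsZ]; rfl
      exact h
    haveI : Module.Finite (Y.presheaf.stalk q) ((cokernel ev).presheaf.stalk q) := M1.finite_stalk hC.1 hC.2 q
    obtain ⟨eO⟩ := CurveCoh17.nonempty_stalk_equiv_structureModule (X := Y) q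
    let eO' := eO.trans (LinearEquiv.funUnique (Fin 1) (Y.presheaf.stalk q) (Y.presheaf.stalk q))
    refine subsingleton_of_tensor_cyclic ((CurveCoh17.stalkLin (ClSub.toSubscheme Z) q).comp eO'.symm.toLinearMap)
      (fun z => ?_) ?_
    · obtain ⟨w, hw⟩ := (M1.epi_iff_stalk _).1 hS₀.epi_g q z
      refine ⟨eO' w, ?_⟩
      show CurveCoh17.stalkLin (ClSub.toSubscheme Z) q (eO'.symm (eO' w)) = z
      rw [LinearEquiv.symm_apply_apply]
      exact hw
    haveI : Subsingleton ((CohB1.tensorMod (ClSub.quotMod Z) (cokernel ev)).presheaf.stalk q : Type u) :=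
      AddCommGrpCat.subsingleton_of_isZero ((M1.stalkAb q).map_isZero hzero)
    exact (M2.stalkEquiv (ClSub.quotMod Z) (cokernel ev) q).symm.toEquiv.subsingleton)
  obtain ⟨S₃, hS₃⟩ := CurveCoh17.exists_suppIn_of_maximal hdim.le hC fun x hx a => by
    obtain rfl := CurveCoh17.eq_genericPoint_of_maximal hx
    refine CurveCoh17.stalk_eq_zero_of_notMem_support (fun hmem => hqC ?_) a
    exact (genericPoint_specializes q).mem_closed (M1.isClosed_support hC.2) hmem
  let J := ShortComplex.mk (Abelian.image.ι ev) c (kernel.condition _)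
  have hJ : J.ShortExact := { exact := ShortComplex.exact_kernel c }
  have hgJ : Curv2.IsGloballyGenerated J.X₁ := ⟨_, Abelian.factorThruImage ev, inferInstance⟩
  haveI hE1 : Subsingleton (Coh.HH Y E 1) := DefAmp1.van_mid k hJ
    (DefAmp1.van_of_gg k hdim.le (CurveCoh17.isCoh_kernel hE hC.1 c) hgJ hO) (hS₃.subsingleton_HH 0)
  refine ⟨hE1, (Module.finrank_zero_iff (R := k)).1 (Nat.le_zero.1 ?_)⟩
  exact hle.trans_eq Module.finrank_zero_of_subsingleton

end Groth.Agent.Ruled10

end
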